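import Groth.Prelude.Def_EtTens2
import Groth.Agent.Unr55.Et.Stalk
import Mathlib.CategoryTheory.Sites.Point.Skyscraper

/-!
Stalks of tensor products of abelian etale sheaves.
-/

set_option autoImplicit false

universe u

open CategoryTheory CategoryTheory.Limits AlgebraicGeometry Opposite
open scoped TensorProduct
open Groth.Agent.Unr55.EtSh

namespace Groth.Agent.EtTens91

set_option backward.isDefEq.respectTransparency.types false

variable {X : Scheme.{u}}

/-- The tensor product sheaf. -/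
noncomputable abbrev T (F G : EtCoh.Ab X) : EtCoh.Ab X := (EtTens.tensorBi.obj F).obj G

/-- The presheaf map into the tensor product sheaf. -/
noncomputable def toT (F G : EtCoh.Ab X) : EtTens.tensorObj F.obj G.obj ⟶ (T F G).obj :=
  CategoryTheory.toSheafify X.smallEtaleTopology (EtTens.tensorObj F.obj G.obj)

/-- Pure tensors of sections. -/
noncomputable def pure (F G : EtCoh.Ab X) (V : X.Etale) (a : EtCoh.sect F V) (b : EtCoh.sect G V) :
    EtCoh.sect (T F G) V :=
  (toT F G).app (op V) (a ⊗ₜ b)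

theorem pure_map (F G : EtCoh.Ab X) {V W : X.Etale} (g : W ⟶ V) (a : EtCoh.sect F V) (b : EtCoh.sect G V) :
    (T F G).obj.map g.op (pure F G V a b) = pure F G W (F.obj.map g.op a) (G.obj.map g.op b) :=
  (NatTrans.naturality_apply (toT F G) g.op (a ⊗ₜ b : (EtTens.tensorObj F.obj G.obj).obj (op V))).symm

theorem pure_add_left (F G : EtCoh.Ab X) (V : X.Etale) (a a' : EtCoh.sect F V) (b : EtCoh.sect G V) :
    pure F G V (a + a') b = pure F G V a b + pure F G V a' b :=
  (congrArg ((toT F G).app (op V)) (TensorProduct.add_tmul a a' b)).trans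
    (map_add ((toT F G).app (op V)).hom (a ⊗ₜ b) (a' ⊗ₜ b))

theorem pure_add_right (F G : EtCoh.Ab X) (V : X.Etale) (a : EtCoh.sect F V) (b b' : EtCoh.sect G V) :
    pure F G V a (b + b') = pure F G V a b + pure F G V a b' :=
  (congrArg ((toT F G).app (op V)) (TensorProduct.tmul_add a b b')).trans
    (map_add ((toT F G).app (op V)).hom (a ⊗ₜ b) (a ⊗ₜ b'))

variable {Ω : Type u} [Field Ω] [IsSepClosed Ω] (ξ : Spec (CommRingCat.of Ω) ⟶ X)

theorem exists_refine {V W : X.Etale} (t : Pt ξ V) (s : Pt ξ W) :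
    ∃ (U : X.Etale) (r : Pt ξ U) (g : U ⟶ V) (h : U ⟶ W),
      (Scheme.pointSmallEtale ξ).fiber.map g r = t ∧ (Scheme.pointSmallEtale ξ).fiber.map h r = s := by
  obtain ⟨⟨U, r⟩, a, b, -⟩ := IsCofiltered.toIsCofilteredOrEmpty.cone_objs
    (C := (Scheme.pointSmallEtale ξ).fiber.Elements) ⟨V, t⟩ ⟨W, s⟩
  exact ⟨U, r, a.val, b.val, a.property, b.property⟩

theorem exists_restrict_eq (F : EtCoh.Ab X) {V : X.Etale} (t : Pt ξ V) (a a' : EtCoh.sect F V)
    (h : germ ξ F t a = germ ξ F t a') :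
    ∃ (W : X.Etale) (g : W ⟶ V) (s : Pt ξ W),
      (Scheme.pointSmallEtale ξ).fiber.map g s = t ∧ F.obj.map g.op a = F.obj.map g.op a' :=
  ((Scheme.pointSmallEtale ξ).toPresheafFiber_eq_iff' (P := F.obj) V t a a').1 h

theorem germ_pure_congr (F G : EtCoh.Ab X) {V W : X.Etale} (t : Pt ξ V) (s : Pt ξ W)
    (a : EtCoh.sect F V) (b : EtCoh.sect G V) (a' : EtCoh.sect F W) (b' : EtCoh.sect G W)
    (ha : germ ξ F t a = germ ξ F s a') (hb : germ ξ G t b = germ ξ G s b') :
    germ ξ (T F G) t (pure F G V a b) = germ ξ (T F G) s (pure F G W a' b') := by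
  obtain ⟨U, r, g, h, hg, hh⟩ := exists_refine ξ t s
  rw [← hg, ← hh, ← germ_map, ← germ_map] at ha hb
  rw [← hg, ← hh, ← germ_map, ← germ_map, pure_map, pure_map]
  obtain ⟨U₁, g₁, r₁, h₁, e₁⟩ := exists_restrict_eq ξ F r _ _ ha
  rw [← h₁, ← germ_map, ← germ_map] at hb
  obtain ⟨U₂, g₂, r₂, h₂, e₂⟩ := exists_restrict_eq ξ G r₁ _ _ hb
  rw [← h₁, ← germ_map, ← germ_map, pure_map, pure_map, ← h₂, ← germ_map, ← germ_map, pure_map, pure_map, e₁, e₂]

/-- The bilinear map on stalks. -/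
noncomputable def mulGerm (F G : EtCoh.Ab X) (x : ((EtCoh.stalk ξ).obj F : AddCommGrpCat.{u + 1}))
    (y : ((EtCoh.stalk ξ).obj G : AddCommGrpCat.{u + 1})) :
    ((EtCoh.stalk ξ).obj (T F G) : AddCommGrpCat.{u + 1}) :=
  let hx := exists_germ_eq ξ F x
  let hy := exists_germ_eq ξ G y
  let hr := exists_refine ξ hx.choose_spec.choose hy.choose_spec.choose
  germ ξ (T F G) hr.choose_spec.choose (pure F G hr.choose
    (F.obj.map hr.choose_spec.choose_spec.choose.op hx.choose_spec.choose_spec.choose)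
    (G.obj.map hr.choose_spec.choose_spec.choose_spec.choose.op hy.choose_spec.choose_spec.choose))

theorem mulGerm_germ (F G : EtCoh.Ab X) {V : X.Etale} (t : Pt ξ V) (a : EtCoh.sect F V) (b : EtCoh.sect G V) :
    mulGerm ξ F G (germ ξ F t a) (germ ξ G t b) = germ ξ (T F G) t (pure F G V a b) := by
  let hx := exists_germ_eq ξ F (germ ξ F t a)
  let hy := exists_germ_eq ξ G (germ ξ G t b)
  let hr := exists_refine ξ hx.choose_spec.choose hy.choose_spec.choose
  have hs := hr.choose_spec.choose_spec.choose_spec.choose_spec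
  refine germ_pure_congr ξ F G _ t _ _ a b ?_ ?_
  · rw [germ_map, hs.1]; exact hx.choose_spec.choose_spec.choose_spec
  · rw [germ_map, hs.2]; exact hy.choose_spec.choose_spec.choose_spec

theorem exists_common_germ (F G : EtCoh.Ab X) (x : ((EtCoh.stalk ξ).obj F : AddCommGrpCat.{u + 1}))
    (y : ((EtCoh.stalk ξ).obj G : AddCommGrpCat.{u + 1})) :
    ∃ (V : X.Etale) (t : Pt ξ V) (a : EtCoh.sect F V) (b : EtCoh.sect G V),
      germ ξ F t a = x ∧ germ ξ G t b = y := by
  obtain ⟨V, t, a, rfl⟩ := exists_germ_eq ξ F x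
  obtain ⟨W, s, b, rfl⟩ := exists_germ_eq ξ G y
  obtain ⟨U, r, g, h, hg, hh⟩ := exists_refine ξ t s
  exact ⟨U, r, _, _, (germ_map ξ F g r a).trans (congrArg (fun p => germ ξ F p a) hg),
    (germ_map ξ G h r b).trans (congrArg (fun p => germ ξ G p b) hh)⟩

theorem mulGerm_add_left (F G : EtCoh.Ab X) (x x' : ((EtCoh.stalk ξ).obj F : AddCommGrpCat.{u + 1}))
    (y : ((EtCoh.stalk ξ).obj G : AddCommGrpCat.{u + 1})) :
    mulGerm ξ F G (x + x') y = mulGerm ξ F G x y + mulGerm ξ F G x' y := by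
  obtain ⟨V, t, a, b, rfl, rfl⟩ := exists_common_germ ξ F G x y
  obtain ⟨W, s, a', rfl⟩ := exists_germ_eq ξ F x'
  obtain ⟨U, r, g, h, hg, hh⟩ := exists_refine ξ t s
  rw [← hg, ← hh, ← germ_map, ← germ_map, ← germ_map, ← map_add, mulGerm_germ, mulGerm_germ, mulGerm_germ,
    pure_add_left, map_add]

theorem mulGerm_add_right (F G : EtCoh.Ab X) (x : ((EtCoh.stalk ξ).obj F : AddCommGrpCat.{u + 1}))
    (y y' : ((EtCoh.stalk ξ).obj G : AddCommGrpCat.{u + 1})) :
    mulGerm ξ F G x (y + y') = mulGerm ξ F G x y + mulGerm ξ F G x y' := by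
  obtain ⟨V, t, a, b, rfl, rfl⟩ := exists_common_germ ξ F G x y
  obtain ⟨W, s, b', rfl⟩ := exists_germ_eq ξ G y'
  obtain ⟨U, r, g, h, hg, hh⟩ := exists_refine ξ t s
  rw [← hg, ← hh, ← germ_map, ← germ_map, ← germ_map, ← map_add, mulGerm_germ, mulGerm_germ, mulGerm_germ,
    pure_add_right, map_add]

/-- The map from the tensor product of stalks. -/
noncomputable def stalkMul (F G : EtCoh.Ab X) :
    ((EtCoh.stalk ξ).obj F : AddCommGrpCat.{u + 1}) ⊗[ℤ] ((EtCoh.stalk ξ).obj G : AddCommGrpCat.{u + 1}) →+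
      ((EtCoh.stalk ξ).obj (T F G) : AddCommGrpCat.{u + 1}) :=
  TensorProduct.liftAddHom (AddMonoidHom.mk' (fun x => AddMonoidHom.mk' (mulGerm ξ F G x)
      (mulGerm_add_right ξ F G x)) fun x x' => AddMonoidHom.ext (mulGerm_add_left ξ F G x x'))
    fun r x y => by
      refine Eq.trans ?_ ((map_zsmul _ r y).symm)
      rw [map_zsmul]
      rfl

theorem stalkMul_germ (F G : EtCoh.Ab X) {V : X.Etale} (t : Pt ξ V) (a : EtCoh.sect F V) (b : EtCoh.sect G V) :
    stalkMul ξ F G (germ ξ F t a ⊗ₜ germ ξ G t b) = germ ξ (T F G) t (pure F G V a b) :=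
  mulGerm_germ ξ F G t a b

theorem stalkMul_surjective (F G : EtCoh.Ab X) : Function.Surjective (stalkMul ξ F G) := by
  intro x
  have hi : IsIso ((Scheme.pointSmallEtale ξ).presheafFiber.map (toT F G)) :=
    inferInstanceAs (IsIso ((Scheme.pointSmallEtale ξ).presheafFiber.map
      (CategoryTheory.toSheafify X.smallEtaleTopology (EtTens.tensorObj F.obj G.obj))))
  obtain ⟨z, rfl⟩ := ((ConcreteCategory.isIso_iff_bijective _).1 hi).2 x
  obtain ⟨V, t, w, rfl⟩ := (Scheme.pointSmallEtale ξ).toPresheafFiber_jointly_surjective z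
  refine ⟨TensorProduct.map (germ ξ F t).toIntLinearMap (germ ξ G t).toIntLinearMap w, ?_⟩
  refine Eq.trans ?_ ((Scheme.pointSmallEtale ξ).toPresheafFiber_naturality_apply (toT F G) V t w).symm
  change ↑((F.obj.obj (op V) : AddCommGrpCat.{u + 1}) ⊗[ℤ] (G.obj.obj (op V) : AddCommGrpCat.{u + 1})) at w
  induction w using TensorProduct.induction_on with
  | zero => rw [map_zero, map_zero]; exact ((congrArg _ (map_zero _)).trans (map_zero _)).symm
  | tmul a b => exact (congrArg _ (TensorProduct.map_tmul _ _ a b)).trans (stalkMul_germ ξ F G t a b)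
  | add a b ha hb =>
    rw [map_add, map_add, ha, hb]
    exact ((congrArg _ (map_add ((toT F G).app (op V)).hom a b)).trans (map_add _ _ _)).symm

theorem exists_split (F G : EtCoh.Ab X) :
    ∃ σ : ((EtCoh.stalk ξ).obj (T F G) : AddCommGrpCat.{u + 1}) →+
        ((EtCoh.stalk ξ).obj F : AddCommGrpCat.{u + 1}) ⊗[ℤ] ((EtCoh.stalk ξ).obj G : AddCommGrpCat.{u + 1}),
      ∀ (V : X.Etale) (t : Pt ξ V) (a : EtCoh.sect F V) (b : EtCoh.sect G V),
        σ (germ ξ (T F G) t (pure F G V a b)) = germ ξ F t a ⊗ₜ germ ξ G t b := by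
  let Φ := Scheme.pointSmallEtale ξ
  let M := AddCommGrpCat.of
    (((EtCoh.stalk ξ).obj F : AddCommGrpCat.{u + 1}) ⊗[ℤ] ((EtCoh.stalk ξ).obj G : AddCommGrpCat.{u + 1}))
  let φ : ∀ (V : X.Etale) (_ : Pt ξ V), (EtTens.tensorObj F.obj G.obj).obj (op V) ⟶ M := fun V t =>
    AddCommGrpCat.ofHom (TensorProduct.map (germ ξ F t).toIntLinearMap (germ ξ G t).toIntLinearMap).toAddMonoidHom
  let d : Φ.presheafFiber.obj (EtTens.tensorObj F.obj G.obj) ⟶ M :=
    Φ.presheafFiberDesc φ fun V W g t => EtTens.hom_ext_tmul fun a b => by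
      change germ ξ F t (F.obj.map g.op a) ⊗ₜ germ ξ G t (G.obj.map g.op b) =
        germ ξ F (Φ.fiber.map g t) a ⊗ₜ germ ξ G (Φ.fiber.map g t) b
      rw [germ_map, germ_map]
  have : IsIso (Φ.presheafFiber.map (toT F G)) :=
    inferInstanceAs (IsIso (Φ.presheafFiber.map
      (CategoryTheory.toSheafify X.smallEtaleTopology (EtTens.tensorObj F.obj G.obj))))
  refine ⟨(inv (Φ.presheafFiber.map (toT F G)) ≫ d).hom, fun V t a b => ?_⟩
  refine (congrArg (inv (Φ.presheafFiber.map (toT F G)) ≫ d).hom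
    (Φ.toPresheafFiber_naturality_apply (toT F G) V t (a ⊗ₜ b : (EtTens.tensorObj F.obj G.obj).obj (op V))).symm).trans ?_
  refine (ConcreteCategory.congr_hom (IsIso.hom_inv_id_assoc (Φ.presheafFiber.map (toT F G)) d) _).trans ?_
  exact ConcreteCategory.congr_hom (Φ.toPresheafFiber_presheafFiberDesc φ _ V t)
    (a ⊗ₜ b : (EtTens.tensorObj F.obj G.obj).obj (op V))

/-- Stalks of tensor products are tensor products of stalks. -/
theorem stalkMul_bijective (F G : EtCoh.Ab X) : Function.Bijective (stalkMul ξ F G) := by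
  obtain ⟨σ, hσ⟩ := exists_split ξ F G
  refine ⟨fun w w' h => ?_, stalkMul_surjective ξ F G⟩
  have e : ∀ w, σ (stalkMul ξ F G w) = w := fun w => by
    induction w using TensorProduct.induction_on with
    | zero => rw [map_zero, map_zero]
    | tmul x y =>
      obtain ⟨V, t, a, b, rfl, rfl⟩ := exists_common_germ ξ F G x y
      rw [stalkMul_germ, hσ]
    | add a b ha hb => rw [map_add, map_add, ha, hb]
  rw [← e w, h, e]

end Groth.Agent.EtTens91
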